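/-
Regular multiplicative invertible functions on the points of a finitely generated algebra form a finitely
generated group.
-/
import Mathlib
import Groth.Agent.UnitsFG.Affine
import Groth.Agent.UnitTensor.Basic

universe u

noncomputable section

namespace Groth.Agent.GLinChar

variable (k : Type u) [Field k] (A : Type u) [CommRing A] [Algebra k A]
  (m : (A →ₐ[k] k) → (A →ₐ[k] k) → (A →ₐ[k] k))

/-- Invertible regular functions on the points which are multiplicative for `m`. -/
def regChar : Subgroup ((A →ₐ[k] k) → kˣ) where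
  carrier := {χ | (∃ a : A, ∀ φ, (χ φ : k) = φ a) ∧ (∃ a : A, ∀ φ, ((χ φ)⁻¹ : kˣ) = φ a) ∧
    ∀ φ ψ, χ (m φ ψ) = χ φ * χ ψ}
  mul_mem' := by
    rintro x y ⟨⟨a, ha⟩, ⟨a', ha'⟩, hx⟩ ⟨⟨b, hb⟩, ⟨b', hb'⟩, hy⟩
    refine ⟨⟨a * b, fun φ => by simp [ha, hb]⟩, ⟨b' * a', fun φ => ?_⟩, fun φ ψ => ?_⟩
    · rw [map_mul, ← ha', ← hb', Pi.mul_apply, mul_inv_rev, Units.val_mul]
    · simp only [Pi.mul_apply, hx, hy]; exact mul_mul_mul_comm _ _ _ _
  one_mem' := ⟨⟨1, fun φ => by simp⟩, ⟨1, fun φ => by simp⟩, fun φ ψ => by simp⟩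
  inv_mem' := by
    rintro x ⟨hxa, hxb, hx⟩
    refine ⟨hxb, ?_, fun φ ψ => ?_⟩
    · obtain ⟨a, ha⟩ := hxa
      exact ⟨a, fun φ => by simp [ha]⟩
    · simp only [Pi.inv_apply, hx, mul_inv]

variable [IsAlgClosed k] [Algebra.FiniteType k A]

/-- Points detect elements modulo a prime ideal. -/
theorem mem_of_forall_point {p : Ideal A} [p.IsPrime] {a : A}
    (h : ∀ φ : A →ₐ[k] k, p ≤ RingHom.ker φ → φ a = 0) : a ∈ p := by
  by_contra ha
  have : Algebra.FiniteType k (A ⧸ p) :=
    Algebra.FiniteType.of_surjective (f := Ideal.Quotient.mkₐ k p) Ideal.Quotient.mk_surjective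
  obtain ⟨ψ, hψ⟩ := UnitTensor.exists_point (k := k) (A := A ⧸ p) (a := Ideal.Quotient.mk p a)
    (fun h0 => ha (Ideal.Quotient.eq_zero_iff_mem.1 h0))
  refine hψ (h (ψ.comp (Ideal.Quotient.mkₐ k p)) fun x hx => ?_)
  rw [RingHom.mem_ker, AlgHom.comp_apply, Ideal.Quotient.mkₐ_eq_mk, Ideal.Quotient.eq_zero_iff_mem.2 hx, map_zero]

theorem exists_point_over (p : Ideal A) [p.IsPrime] : ∃ φ : A →ₐ[k] k, p ≤ RingHom.ker φ := by
  by_contra h
  push Not at h
  exact (Ideal.IsPrime.ne_top ‹_›) (Ideal.eq_top_iff_one _ |>.2 (mem_of_forall_point k A fun φ hφ => absurd hφ (h φ)))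

theorem exists_minimalPrime_le_ker (φ : A →ₐ[k] k) : ∃ p ∈ minimalPrimes A, p ≤ RingHom.ker φ := by
  have : (RingHom.ker φ).IsPrime := RingHom.ker_isPrime _
  exact Ideal.exists_minimalPrimes_le (bot_le (a := RingHom.ker φ))

/-- The value of a regular character modulo a prime, as a unit. -/
def residue (p : Ideal A) [p.IsPrime] : regChar k A m →* (A ⧸ p)ˣ where
  toFun χ :=
    { val := Ideal.Quotient.mk p χ.2.1.choose
      inv := Ideal.Quotient.mk p χ.2.2.1.choose
      val_inv := by
        rw [← map_mul, ← map_one (Ideal.Quotient.mk p), Ideal.Quotient.eq]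
        refine mem_of_forall_point k A fun φ _ => ?_
        rw [map_sub, map_mul, ← χ.2.1.choose_spec φ, ← χ.2.2.1.choose_spec φ, map_one, Units.mul_inv, sub_self]
      inv_val := by
        rw [← map_mul, ← map_one (Ideal.Quotient.mk p), Ideal.Quotient.eq]
        refine mem_of_forall_point k A fun φ _ => ?_
        rw [map_sub, map_mul, ← χ.2.1.choose_spec φ, ← χ.2.2.1.choose_spec φ, map_one, Units.inv_mul, sub_self] }
  map_one' := Units.ext (by
    show Ideal.Quotient.mk p _ = ((1 : (A ⧸ p)ˣ) : A ⧸ p)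
    rw [Units.val_one, ← map_one (Ideal.Quotient.mk p), Ideal.Quotient.eq]
    refine mem_of_forall_point k A fun φ _ => ?_
    rw [map_sub, ← (1 : regChar k A m).2.1.choose_spec φ, map_one]
    simp)
  map_mul' χ χ' := Units.ext (by
    show Ideal.Quotient.mk p _ = Ideal.Quotient.mk p _ * Ideal.Quotient.mk p _
    rw [← map_mul, Ideal.Quotient.eq]
    refine mem_of_forall_point k A fun φ _ => ?_
    rw [map_sub, map_mul, ← (χ * χ').2.1.choose_spec φ, ← χ.2.1.choose_spec φ, ← χ'.2.1.choose_spec φ]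
    simp)

theorem apply_eq_of_residue {p : Ideal A} [p.IsPrime] {χ : regChar k A m} {c : k}
    (hc : (residue k A m p χ : A ⧸ p) = algebraMap k (A ⧸ p) c) {φ : A →ₐ[k] k} (hφ : p ≤ RingHom.ker φ) :
    (χ.1 φ : k) = c := by
  have h : Ideal.Quotient.mk p χ.2.1.choose = Ideal.Quotient.mk p (algebraMap k A c) := hc
  rw [Ideal.Quotient.eq] at h
  have := RingHom.mem_ker.1 (hφ h)
  rw [map_sub, AlgHom.commutes, sub_eq_zero] at this
  rw [χ.2.1.choose_spec φ, this]
  rfl

/-- `regChar` is finitely generated. -/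
theorem isNoetherian_regChar : IsNoetherian ℤ (Additive (regChar k A m)) := by
  classical
  haveI : IsNoetherianRing A := Algebra.FiniteType.isNoetherianRing k A
  haveI : Finite (minimalPrimes A) := (minimalPrimes.finite_of_isNoetherianRing A).to_subtype
  haveI hpr : ∀ p : minimalPrimes A, p.1.IsPrime := fun p => Ideal.minimalPrimes_isPrime p.2
  have hft : ∀ p : minimalPrimes A, Algebra.FiniteType k (A ⧸ p.1) := fun p =>
    Algebra.FiniteType.of_surjective (f := Ideal.Quotient.mkₐ k p.1) Ideal.Quotient.mk_surjective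
  choose ι hι v hv using fun p : minimalPrimes A =>
    haveI := hft p
    UnitsFG.exists_unitsHom k (A ⧸ p.1)
  let f : regChar k A m →* ((p : minimalPrimes A) → ι p → Multiplicative ℤ) :=
    MonoidHom.mk' (fun χ p => v p (residue k A m p.1 χ)) (fun a b => funext fun p => by simp)
  let F : Additive (regChar k A m) →ₗ[ℤ] ((p : minimalPrimes A) → ι p → ℤ) :=
    AddMonoidHom.toIntLinearMap
      { toFun := fun χ p i => Multiplicative.toAdd (f (Additive.toMul χ) p i)
        map_zero' := by funext p i; rw [toMul_zero, map_one]; rfl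
        map_add' := fun a b => by funext p i; rw [toMul_add, map_mul]; rfl }
  -- the kernel is finite
  have hconst : ∀ χ : LinearMap.ker F, ∀ p : minimalPrimes A, ∃ c : k, ∀ φ : A →ₐ[k] k,
      p.1 ≤ RingHom.ker φ → ((Additive.toMul χ.1).1 φ : k) = c := fun χ p => by
    haveI := hft p
    have h1 : v p (residue k A m p.1 (Additive.toMul χ.1)) = 1 := funext fun i => by
      have h0 := congrFun (congrFun (LinearMap.mem_ker.1 χ.2) p) i
      exact Multiplicative.toAdd.injective h0
    haveI : Algebra.IsIntegral k (integralClosure k (A ⧸ p.1)) := integralClosure.AlgebraIsIntegral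
    obtain ⟨c, hc⟩ := (IsAlgClosed.algebraMap_bijective_of_isIntegral (k := k)
      (K := integralClosure k (A ⧸ p.1))).2 ⟨_, hv p _ h1⟩
    replace hc : algebraMap k (A ⧸ p.1) c = _ := congrArg Subtype.val hc
    exact ⟨c, fun φ hφ => apply_eq_of_residue k A m hc.symm hφ⟩
  choose c hc using hconst
  set N := Nat.card (minimalPrimes A) with hN
  have hroot : ∀ (χ : LinearMap.ker F) (p : minimalPrimes A), c χ p ^ N.factorial = 1 := fun χ p => by
    obtain ⟨φ, hφ⟩ := exists_point_over k A p.1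
    rw [← hc χ p φ hφ]
    -- the values form a finite set stable under powers
    let pw : ℕ → (A →ₐ[k] k) := fun n => n.rec φ (fun _ ψ => m φ ψ)
    have hpw : ∀ n, (Additive.toMul χ.1).1 (pw n) = (Additive.toMul χ.1).1 φ ^ (n + 1) := fun n => by
      induction n with
      | zero => rw [zero_add, pow_one]; rfl
      | succ n ih =>
        show (Additive.toMul χ.1).1 (m φ (pw n)) = _
        rw [(Additive.toMul χ.1).2.2.2, ih, ← pow_succ']
    haveI : Fintype (minimalPrimes A) := Fintype.ofFinite _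
    choose q hq hq' using fun n : ℕ => exists_minimalPrime_le_ker k A (pw n)
    obtain ⟨i, j, hij, heq⟩ := Fintype.exists_ne_map_eq_of_card_lt
      (fun i : Fin (N + 1) => (⟨q i, hq i⟩ : minimalPrimes A))
      (h := by rw [Fintype.card_fin, ← Nat.card_eq_fintype_card (α := minimalPrimes A), ← hN]; omega)
    wlog hlt : (i : ℕ) < (j : ℕ) generalizing i j
    · exact this j i (Ne.symm hij) heq.symm (lt_of_le_of_ne (not_lt.1 hlt) fun h => hij (Fin.ext h.symm))
    have e : ((Additive.toMul χ.1).1 (pw i) : k) = (Additive.toMul χ.1).1 (pw j) := by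
      rw [hc χ ⟨q i, hq i⟩ _ (hq' i), hc χ ⟨q j, hq j⟩ _ (hq' j), heq]
    rw [hpw, hpw, Units.val_inj] at e
    have h1 : (Additive.toMul χ.1).1 φ ^ ((j : ℕ) - i) = 1 :=
      mul_right_cancel (b := (Additive.toMul χ.1).1 φ ^ ((i : ℕ) + 1)) (by
        rw [← pow_add, show (j : ℕ) - i + ((i : ℕ) + 1) = j + 1 by omega, one_mul, e])
    obtain ⟨d, hd⟩ := Nat.dvd_factorial (show 0 < (j : ℕ) - i by omega) (show (j : ℕ) - i ≤ N by omega)
    rw [← Units.val_pow_eq_pow_val, hd, pow_mul, h1, one_pow, Units.val_one]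
  haveI : Fintype {x : k // x ∈ Polynomial.nthRootsFinset N.factorial (1 : k)} := inferInstance
  haveI : Finite (LinearMap.ker F) := by
    refine Finite.of_injective (fun χ (p : minimalPrimes A) =>
      (⟨c χ p, (Polynomial.mem_nthRootsFinset N.factorial_pos 1).2 (hroot χ p)⟩ :
        {x : k // x ∈ Polynomial.nthRootsFinset N.factorial (1 : k)})) fun χ χ' h => ?_
    refine Subtype.ext (Additive.toMul.injective (Subtype.ext (funext fun φ => Units.ext ?_)))
    obtain ⟨p, hp, hp'⟩ := exists_minimalPrime_le_ker k A φ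
    rw [hc χ ⟨p, hp⟩ φ hp', hc χ' ⟨p, hp⟩ φ hp']
    exact congrArg Subtype.val (congrFun h ⟨p, hp⟩)
  haveI := hι
  exact isNoetherian_of_range_eq_ker (LinearMap.ker F).subtype F (Submodule.range_subtype _)

end Groth.Agent.GLinChar
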