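/-
Semi-invariants in a factorial algebra with scalar units: their characters are finitely generated.
-/
import Mathlib
import Groth.Agent.GLinChar.Units
import Groth.Agent.S15702

universe u

noncomputable section

namespace Groth.Agent.GLinChar

open TensorProduct Groth.Agent.UnitTensor GLin

variable {k : Type u} [Field k] {A : Type u} [CommRing A] [HopfAlgebra k A] {B : Type u} [CommRing B]
  [Algebra k B] [HopfRep.Comod k A B] [GLin.IsCoactAlg k A B]

local notation "ρ" => GLin.coactAlgHom k A B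
local notation "act" => HopfRep.Comod.act k A B

/-- Product of points. -/
def conv (φ ψ : A →ₐ[k] k) : A →ₐ[k] k :=
  (Algebra.TensorProduct.lift φ ψ fun _ _ => Commute.all _ _).comp (Bialgebra.comulAlgHom k A)

theorem act_conv (φ ψ : A →ₐ[k] k) (b : B) : act (conv φ ψ) b = act φ (act ψ b) := by
  let T : (B ⊗[k] A) ⊗[k] A →ₗ[k] B :=
    TensorProduct.lift
      (((LinearMap.lsmul k B).comp ψ.toLinearMap).flip ∘ₗ (spec φ).toLinearMap)
  have h1 : ∀ t : B ⊗[k] A, act φ (spec ψ t) = T ((HopfRep.Comod.coact (k := k) (A := A)).rTensor A t) := by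
    intro t
    induction t using TensorProduct.induction_on with
    | zero => simp
    | tmul x a =>
      rw [spec_tmul, map_smul, S15702.act_eq_spec]
      rfl
    | add x y hx hy => simp only [map_add, hx, hy]
  have h2 : ∀ t : B ⊗[k] A, T ((TensorProduct.assoc k B A A).symm ((CoalgebraStruct.comul (R := k) (A := A)).lTensor B t)) =
      spec (conv φ ψ) t := by
    intro t
    induction t using TensorProduct.induction_on with
    | zero => simp
    | tmul x a =>
      rw [LinearMap.lTensor_tmul, spec_tmul, show conv φ ψ a =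
        Algebra.TensorProduct.lift φ ψ (fun _ _ => Commute.all _ _) (CoalgebraStruct.comul (R := k) a) from rfl]
      generalize CoalgebraStruct.comul (R := k) a = s
      induction s using TensorProduct.induction_on with
      | zero => simp
      | tmul p q => simp [T, smul_smul, mul_comm]
      | add p q hp hq => simp only [tmul_add, map_add, hp, hq, add_smul]
    | add x y hx hy => simp only [map_add, hx, hy]
  conv_rhs => rw [S15702.act_eq_spec ψ, h1, GLin.coactAlgHom_apply]
  rw [S15702.act_eq_spec, GLin.coactAlgHom_apply, ← h2]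
  congr 1
  exact ((LinearEquiv.eq_symm_apply _).mpr (LinearMap.congr_fun HopfRep.Comod.coassoc b)).symm

theorem act_mul (φ : A →ₐ[k] k) (a b : B) : act φ (a * b) = act φ a * act φ b := by
  simp only [S15702.act_eq_spec, map_mul]

theorem act_antipode (φ : A →ₐ[k] k) (b : B) : act φ (act (φ.comp (HopfAlgebra.antipodeAlgHom k A)) b) = b := by
  rw [S15702.act_eq_spec (φ.comp _)]
  exact S15702.act_act_antipode φ b

theorem act_antipode' (φ : A →ₐ[k] k) (b : B) : act (φ.comp (HopfAlgebra.antipodeAlgHom k A)) (act φ b) = b := by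
  conv_rhs => rw [← act_antipode (φ.comp (HopfAlgebra.antipodeAlgHom k A)) b]
  congr 2
  refine congrArg _ (AlgHom.ext fun a => ?_)
  exact (congr_arg φ (Groth.Agent.Comod.antipodeAlgHom_antipode a)).symm

theorem act_injective (φ : A →ₐ[k] k) : Function.Injective (act φ) :=
  Function.LeftInverse.injective fun b => act_antipode' φ b

/-- Characters of semi-invariants. -/
def semiChar (k A B : Type u) [Field k] [CommRing A] [HopfAlgebra k A] [CommRing B] [Algebra k B]
    [HopfRep.Comod k A B] : Set ((A →ₐ[k] k) → kˣ) :=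
  {χ | ∃ b : B, b ≠ 0 ∧ ∀ φ, HopfRep.Comod.act k A B φ b = (χ φ : k) • b}

theorem semiChar_subset [IsDomain B] : semiChar k A B ⊆ regChar k A conv := by
  rintro χ ⟨b, hb, hχ⟩
  obtain ⟨θ₀, hθ₀⟩ := Module.Projective.exists_dual_ne_zero k hb
  set θ : Module.Dual k B := (θ₀ b)⁻¹ • θ₀
  have hθ : θ b = 1 := by simp [θ, hθ₀]
  let a : A := TensorProduct.lid k A (θ.rTensor A (ρ b))
  have ha : ∀ φ : A →ₐ[k] k, φ a = θ (act φ b) := fun φ => by
    rw [S15702.act_eq_spec]
    simp only [a]
    generalize ρ b = t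
    induction t using TensorProduct.induction_on with
    | zero => simp
    | tmul x y => simp [mul_comm]
    | add x y hx hy => simp only [map_add, hx, hy]
  have haχ : ∀ φ, (χ φ : k) = φ a := fun φ => by rw [ha, hχ, map_smul, hθ, smul_eq_mul, mul_one]
  have hinv : ∀ φ, ((χ φ)⁻¹ : kˣ) = χ (φ.comp (HopfAlgebra.antipodeAlgHom k A)) := fun φ => by
    have h := act_antipode φ b
    rw [hχ, map_smul, hχ, smul_smul] at h
    conv_rhs at h => rw [← one_smul k b]
    exact inv_eq_of_mul_eq_one_left (Units.ext (smul_left_injective k hb h))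
  refine ⟨⟨a, haχ⟩, ⟨HopfAlgebra.antipode k a, fun φ => ?_⟩, fun φ ψ => Units.ext (smul_left_injective k hb ?_)⟩
  · rw [hinv, haχ]; rfl
  · show (χ (conv φ ψ) : k) • b = ((χ φ * χ ψ : kˣ) : k) • b
    rw [← hχ, act_conv, hχ, map_smul, hχ, smul_smul, Units.val_mul, mul_comm]

variable [IsDomain B]

theorem exists_semiChar [UniqueFactorizationMonoid B] (hunits : ∀ u : Bˣ, ∃ c : k, algebraMap k B c = u)
    {a b : B} (hb : b ≠ 0) (h : ∀ φ, act φ a * b = a * act φ b) :
    ∃ (a' b' : B) (χ : (A →ₐ[k] k) → kˣ), b' ≠ 0 ∧ (∀ φ, act φ a' = (χ φ : k) • a') ∧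
      (∀ φ, act φ b' = (χ φ : k) • b') ∧ a * b' = a' * b := by
  obtain ⟨a', b', c, hrel, rfl, rfl⟩ := UniqueFactorizationMonoid.exists_reduced_factors' a b hb
  have hc : c ≠ 0 := left_ne_zero_of_mul hb
  have hb' : b' ≠ 0 := right_ne_zero_of_mul hb
  have h' : ∀ φ, act φ a' * b' = a' * act φ b' := fun φ => by
    have := h φ
    rw [act_mul, act_mul] at this
    have hc' : act φ c ≠ 0 := fun h0 => hc (act_injective φ (by rw [h0, map_zero]))
    refine mul_left_cancel₀ (mul_ne_zero hc hc') ?_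
    linear_combination this
  have hd : ∀ φ, ∃ x : B, act φ b' = b' * x := fun φ =>
    IsRelPrime.dvd_of_dvd_mul_left hrel.symm (Dvd.intro_left _ (h' φ))
  choose x hx using hd
  have hxu : ∀ φ, IsUnit (x φ) := fun φ => by
    have h1 := act_antipode φ b'
    rw [hx, act_mul, hx, mul_assoc] at h1
    exact IsUnit.of_mul_eq_one _ ((mul_eq_left₀ hb').1 h1)
  choose s hs using fun φ => hunits (hxu φ).unit
  have hs0 : ∀ φ, s φ ≠ 0 := fun φ h0 => (hxu φ).ne_zero (by
    rw [← (hxu φ).unit_spec, ← hs, h0, map_zero])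
  refine ⟨a', b', fun φ => Units.mk0 _ (hs0 φ), hb', fun φ => ?_, fun φ => ?_, by ring⟩
  · have := h' φ
    rw [hx] at this
    rw [Units.val_mk0, Algebra.smul_def, hs, IsUnit.unit_spec]
    refine mul_right_cancel₀ hb' ?_
    linear_combination this
  · rw [Units.val_mk0, Algebra.smul_def, hs, IsUnit.unit_spec, hx, mul_comm]

theorem act_prod {ι : Type*} (s : Finset ι) (b : ι → B) (n : ι → ℕ) (χ : ι → (A →ₐ[k] k) → kˣ)
    (h : ∀ i ∈ s, ∀ φ, act φ (b i) = (χ i φ : k) • b i) (φ : A →ₐ[k] k) :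
    act φ (∏ i ∈ s, b i ^ n i) = ((∏ i ∈ s, χ i φ ^ n i : kˣ) : k) • ∏ i ∈ s, b i ^ n i := by
  rw [S15702.act_eq_spec, map_prod, map_prod, Units.coe_prod, Algebra.smul_def, map_prod, ← Finset.prod_mul_distrib]
  refine Finset.prod_congr rfl fun i hi => ?_
  rw [map_pow, map_pow, ← S15702.act_eq_spec, h i hi, Units.val_pow_eq_pow_val, Algebra.smul_def, mul_pow, map_pow]

/-- The main statement. -/
theorem exists_stable_element [IsAlgClosed k] [Algebra.FiniteType k A] [UniqueFactorizationMonoid B]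
    (hunits : ∀ u : Bˣ, ∃ c : k, algebraMap k B c = u) :
    ∃ h : B, h ≠ 0 ∧ (∀ φ : A →ₐ[k] k, ∃ (N : ℕ) (u : B), act φ h * u = h ^ N) ∧
      ∀ a b : B, b ≠ 0 → (∀ φ, act φ a * b = a * act φ b) →
        ∃ (c d : B) (r t : ℕ), d ≠ 0 ∧ (∀ φ, act φ c * h ^ r = c * act φ h ^ r) ∧
          (∀ φ, act φ d * h ^ t = d * act φ h ^ t) ∧ a * d * h ^ r = b * c * h ^ t := by
  classical
  haveI := isNoetherian_regChar k A (conv (k := k) (A := A))
  let S : Set (Additive (regChar k A (conv (k := k) (A := A)))) := {x | (Additive.toMul x).1 ∈ semiChar k A B}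
  obtain ⟨T, hTS, hT⟩ :=
    (Submodule.fg_span_iff_fg_span_finset_subset S).1 (IsNoetherian.noetherian (Submodule.span ℤ S))
  choose! g hg0 hg using fun (x : Additive (regChar k A (conv (k := k) (A := A)))) (hx : x ∈ T) => hTS hx
  set h := ∏ x ∈ T, g x with hh
  let χh : (A →ₐ[k] k) → kˣ := fun φ => ∏ x ∈ T, (Additive.toMul x).1 φ
  have hh0 : h ≠ 0 := Finset.prod_ne_zero_iff.2 hg0
  have hact : ∀ φ, act φ h = (χh φ : k) • h := fun φ => by
    simpa [h, χh] using act_prod T g (fun _ => 1) (fun x => (Additive.toMul x).1) hg φ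
  refine ⟨h, hh0, fun φ => ⟨1, algebraMap k B ((χh φ)⁻¹ : kˣ), ?_⟩, fun a b hb hab => ?_⟩
  · rw [hact, Algebra.smul_def, mul_right_comm, ← map_mul, Units.mul_inv, map_one, one_mul, pow_one]
  obtain ⟨a', b', χ, hb', hχa, hχb, hrel⟩ := exists_semiChar hunits hb hab
  have hχS : χ ∈ semiChar k A B := ⟨b', hb', hχb⟩
  let x₀ : Additive (regChar k A (conv (k := k) (A := A))) := Additive.ofMul ⟨χ, semiChar_subset hχS⟩
  obtain ⟨e, he⟩ : ∃ e : Additive (regChar k A (conv (k := k) (A := A))) → ℤ, ∑ x ∈ T, e x • x = x₀ := by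
    have hmem : x₀ ∈ Submodule.span ℤ (T : Set (Additive (regChar k A (conv (k := k) (A := A))))) :=
      hT ▸ Submodule.subset_span hχS
    obtain ⟨e, -, he⟩ := Submodule.mem_span_finset.1 hmem
    exact ⟨e, he⟩
  obtain ⟨N, hN⟩ : ∃ N : ℕ, ∀ x ∈ T, e x ≤ N := ⟨T.sup fun x => (e x).toNat, fun x hx =>
    (Int.self_le_toNat _).trans (by exact_mod_cast Finset.le_sup (f := fun x => (e x).toNat) hx)⟩
  let n : Additive (regChar k A (conv (k := k) (A := A))) → ℕ := fun x => ((N : ℤ) - e x).toNat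
  set P := ∏ x ∈ T, g x ^ n x with hP
  have hchar : ∀ φ, χ φ * ∏ x ∈ T, (Additive.toMul x).1 φ ^ n x = χh φ ^ N := fun φ => by
    have h1 : χ φ = ∏ x ∈ T, (Additive.toMul x).1 φ ^ e x := by
      have h2 := congrArg (fun y => (Additive.toMul y).1 φ) he
      simp only [toMul_sum, toMul_zsmul, SubmonoidClass.coe_finsetProd, Finset.prod_apply] at h2
      exact h2.symm.trans rfl
    rw [h1, ← Finset.prod_mul_distrib, ← Finset.prod_pow]
    refine Finset.prod_congr rfl fun x hx => ?_
    rw [← zpow_natCast, ← zpow_natCast _ N, ← zpow_add]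
    congr 1
    have := hN x hx
    simp only [n]
    omega
  have hkey : ∀ y : B, (∀ φ, act φ y = (χ φ : k) • y) → ∀ φ, act φ (y * P) * h ^ N = y * P * act φ h ^ N :=
    fun y hy φ => by
      rw [act_mul, hy, hP, act_prod T g n (fun x => (Additive.toMul x).1) hg φ, smul_mul_smul_comm,
        ← Units.val_mul, hchar, hact, smul_pow, Units.val_pow_eq_pow_val, smul_mul_assoc, mul_smul_comm]
  refine ⟨a' * P, b' * P, N, N, mul_ne_zero hb' (Finset.prod_ne_zero_iff.2 fun x hx => pow_ne_zero _ (hg0 x hx)),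
    hkey a' hχa, hkey b' hχb, ?_⟩
  linear_combination (P * h ^ N) * hrel

end Groth.Agent.GLinChar
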